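import Groth.Agent.CGrpSh3.K983.SecTensor
import Groth.Agent.Sga3B.AffYoneda

/-!
# The direct image of the multiplicative group along a proper scheme over a field is representable

* `exists_units`: for a finite algebra `B` over a field `k` the functor `T ↦ (T ⊗ B)ˣ` on `k`-algebras is
  representable;
* `isWeilRes_of_affine`: the defining property of a Weil restriction may be checked on affine points;
* `exists_isWeilRes`: for `f : X ⟶ Spec k` quasi-compact and quasi-separated with `Γ(X, ⊤)` finite over `k`, the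
  functor `T ↦ 𝔾_m(T ×_k X)` is representable by an affine scheme.
-/

set_option autoImplicit false
universe u
open CategoryTheory CategoryTheory.Limits AlgebraicGeometry TensorProduct MonObj

namespace K983.UnitsRep

open K983.SecTensor Groth.Agent.Pi1C.WeilAlg

/-- `T ↦ (T ⊗ B)ˣ` is representable. -/
theorem exists_units (k B : Type u) [CommRing k] [CommRing B] [Algebra k B] [Module.Finite k B]
    [Module.Projective k B] :
    ∃ (W : Type u) (_ : CommRing W) (_ : Algebra k W) (w : (W ⊗[k] B)ˣ),
      ∀ (T : Type u) [CommRing T] [Algebra k T], Function.Bijective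
        (fun h : W →ₐ[k] T => Units.map (Algebra.TensorProduct.map h (AlgHom.id k B) : W ⊗[k] B →* T ⊗[k] B) w) := by
  obtain ⟨W, _, _, ev, hev⟩ := exists_isRep k B (MonoidAlgebra k (Multiplicative ℤ))
  let t : (MonoidAlgebra k (Multiplicative ℤ))ˣ :=
    Units.map (MonoidAlgebra.of k (Multiplicative ℤ)) (toUnits (Multiplicative.ofAdd (1 : ℤ)))
  refine ⟨W, inferInstance, inferInstance,
    Units.map (ev : MonoidAlgebra k (Multiplicative ℤ) →* W ⊗[k] B) t, fun T _ _ => ?_⟩
  have key : Function.Bijective (fun φ : MonoidAlgebra k (Multiplicative ℤ) →ₐ[k] T ⊗[k] B =>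
      Units.map (φ : MonoidAlgebra k (Multiplicative ℤ) →* T ⊗[k] B) t) := by
    constructor
    · intro φ ψ h
      apply (MonoidAlgebra.lift k (T ⊗[k] B) (Multiplicative ℤ)).symm.injective
      have h1 : φ (MonoidAlgebra.of k _ (Multiplicative.ofAdd (1 : ℤ))) =
        ψ (MonoidAlgebra.of k _ (Multiplicative.ofAdd (1 : ℤ))) := congrArg Units.val h
      exact MonoidHom.ext_mint h1
    · intro v
      refine ⟨MonoidAlgebra.lift k (T ⊗[k] B) (Multiplicative ℤ)
        ((Units.coeHom _).comp (zpowersHom _ v)), ?_⟩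
      ext
      change (MonoidAlgebra.lift k (T ⊗[k] B) (Multiplicative ℤ)
        ((Units.coeHom _).comp (zpowersHom _ v))) (MonoidAlgebra.of k _ (Multiplicative.ofAdd (1 : ℤ))) = _
      rw [MonoidAlgebra.lift_of]
      simp
  exact key.comp (hev T)

/-- The defining property of a Weil restriction may be checked on affine points. -/
theorem isWeilRes_of_affine {S S' : Scheme.{u}} (f : S' ⟶ S) {X' : Over S'} {R : Over S}
    (q : Red.bc f R ⟶ X')
    (h : ∀ (A : CommRingCat.{u}) (s : Spec A ⟶ S), Function.Bijective (WeilRes.restr f q (Over.mk s))) :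
    WeilRes.IsWeilRes f X' R q := by
  intro T
  constructor
  · intro a b hab
    apply Groth.Agent.Sga3B.AffYoneda.hom_ext
    intro A s g
    apply (h A s).1
    rw [WeilRes.restr_comp, WeilRes.restr_comp, hab]
  · intro t
    let F : ∀ (A : CommRingCat.{u}) (s : Spec A ⟶ S), (Over.mk s ⟶ T) → (Over.mk s ⟶ R) := fun A s g =>
      ((h A s).2 ((Over.pullback f).map g ≫ t)).choose
    have hF : ∀ (A : CommRingCat.{u}) (s : Spec A ⟶ S) (g : Over.mk s ⟶ T),
        WeilRes.restr f q (Over.mk s) (F A s g) = (Over.pullback f).map g ≫ t := fun A s g =>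
      ((h A s).2 ((Over.pullback f).map g ≫ t)).choose_spec
    obtain ⟨f₀, hf₀, -⟩ := Groth.Agent.Sga3B.AffYoneda.existsUnique_hom F (by
      intro A A' s s' j g
      apply (h A' s').1
      rw [hF, WeilRes.restr_comp, hF, Functor.map_comp, Category.assoc])
    refine ⟨f₀, ?_⟩
    have h1 : ∀ (A : CommRingCat.{u}) (s : Spec A ⟶ S) (g : Over.mk s ⟶ T),
        (Over.pullback f).map g ≫ WeilRes.restr f q T f₀ = (Over.pullback f).map g ≫ t := by
      intro A s g
      rw [← WeilRes.restr_comp, hf₀, hF]
    apply Over.OverMorphism.ext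
    let 𝒰 := T.left.affineOpenCover
    apply Scheme.Cover.hom_ext (𝒰.openCover.pullback₁ (pullback.fst T.hom f))
    intro i
    let g : Over.mk (𝒰.f i ≫ T.hom) ⟶ T := Over.homMk (𝒰.f i) rfl
    have h2 := congrArg (fun z => z.left) (h1 _ _ g)
    simp only [Over.comp_left] at h2
    -- the member of the pulled back cover factors through the base change of `g`
    let c : pullback (pullback.fst T.hom f) (𝒰.f i) ⟶ pullback (𝒰.f i ≫ T.hom) f :=
      pullback.lift (pullback.snd _ _) (pullback.fst _ _ ≫ pullback.snd _ _) (by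
        rw [Category.assoc, ← pullback.condition, ← Category.assoc, ← Category.assoc, pullback.condition])
    have hc : c ≫ ((Over.pullback f).map g).left = pullback.fst (pullback.fst T.hom f) (𝒰.f i) := by
      apply pullback.hom_ext
      · rw [Category.assoc]
        have e1 : ((Over.pullback f).map g).left ≫ pullback.fst T.hom f =
            pullback.fst (𝒰.f i ≫ T.hom) f ≫ 𝒰.f i := pullback.lift_fst _ _ _
        rw [e1, ← Category.assoc, pullback.lift_fst, pullback.condition]
      · rw [Category.assoc]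
        have e1 : ((Over.pullback f).map g).left ≫ pullback.snd T.hom f =
            pullback.snd (𝒰.f i ≫ T.hom) f := pullback.lift_snd _ _ _
        rw [e1, pullback.lift_snd]
    change pullback.fst (pullback.fst T.hom f) (𝒰.f i) ≫ _ = pullback.fst (pullback.fst T.hom f) (𝒰.f i) ≫ _
    rw [← hc, Category.assoc, h2, Category.assoc]

variable {k : Type u} [Field k] {X : Scheme.{u}} {f : X ⟶ Spec (CommRingCat.of k)}

/-- `𝔾_m(Spec A ×_k X) = (A ⊗ B)ˣ` -/
noncomputable def ptEquiv {B : Type u} [CommRing B] [Algebra k B] (β : TopAlg f B) [QuasiCompact f]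
    [QuasiSeparated f] (A : Type u) [CommRing A] [Algebra k A] :
    (Red.bc f (so k A) ⟶ Red.Gm X) ≃ (A ⊗[k] B)ˣ :=
  (GmPts.equiv (Red.bc f (so k A))).toEquiv.trans
    (Units.mapEquiv (secIso β A).commRingCatIsoToRingEquiv.symm.toMulEquiv).toEquiv

theorem secIso_ptEquiv {B : Type u} [CommRing B] [Algebra k B] (β : TopAlg f B) [QuasiCompact f]
    [QuasiSeparated f] (A : Type u) [CommRing A] [Algebra k A] (t : Red.bc f (so k A) ⟶ Red.Gm X) :
    (secIso β A).hom.hom (ptEquiv β A t : A ⊗[k] B) = (GmPts.unitOfPt t : Γ((Red.bc f (so k A)).left, ⊤)) :=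
  (secIso β A).commRingCatIsoToRingEquiv.apply_symm_apply _

theorem ptEquiv_som {B : Type u} [CommRing B] [Algebra k B] (β : TopAlg f B) [QuasiCompact f]
    [QuasiSeparated f] {A A' : Type u} [CommRing A] [Algebra k A] [CommRing A'] [Algebra k A'] (j : A →ₐ[k] A')
    (t : Red.bc f (so k A) ⟶ Red.Gm X) :
    ptEquiv β A' ((Over.pullback f).map (som j) ≫ t) =
      Units.map (Algebra.TensorProduct.map j (AlgHom.id k B) : A ⊗[k] B →* A' ⊗[k] B) (ptEquiv β A t) := by
  apply Units.ext
  apply (secIso β A').commRingCatIsoToRingEquiv.injective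
  change (secIso β A').hom.hom _ = (secIso β A').hom.hom _
  rw [secIso_ptEquiv, GmPts.unitOfPt_comp]
  have h1 := secIso_nat β j (ptEquiv β A t : A ⊗[k] B)
  rw [secIso_ptEquiv] at h1
  exact h1

/-- **Representability of `f_* 𝔾_m`.** -/
theorem exists_isWeilRes {B : Type u} [CommRing B] [Algebra k B] [Module.Finite k B] (β : TopAlg f B)
    [QuasiCompact f] [QuasiSeparated f] :
    ∃ (W : Type u) (_ : CommRing W) (_ : Algebra k W) (q : Red.bc f (so k W) ⟶ Red.Gm X),
      WeilRes.IsWeilRes f (Red.Gm X) (so k W) q := by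
  obtain ⟨W, _, _, w, hw⟩ := exists_units k B
  let q : Red.bc f (so k W) ⟶ Red.Gm X := (ptEquiv β W).symm w
  have hq : ptEquiv β W q = w := (ptEquiv β W).apply_symm_apply w
  refine ⟨W, inferInstance, inferInstance, q, isWeilRes_of_affine f q fun A s => ?_⟩
  obtain ⟨φ, rfl⟩ := Spec.map_surjective s
  let _ : Algebra k A := φ.hom.toAlgebra
  change Function.Bijective (WeilRes.restr f q (so k A))
  have h1 : Function.Bijective (fun j : W →ₐ[k] A => ptEquiv β A (WeilRes.restr f q (so k A) (som j))) := by
    have h2 : (fun j : W →ₐ[k] A => ptEquiv β A (WeilRes.restr f q (so k A) (som j))) =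
        fun j => Units.map (Algebra.TensorProduct.map j (AlgHom.id k B) : W ⊗[k] B →* A ⊗[k] B) w := by
      funext j
      rw [WeilRes.restr_apply, ptEquiv_som, hq]
    rw [h2]
    exact hw A
  have h3 : Function.Bijective (fun g : so k A ⟶ so k W => ptEquiv β A (WeilRes.restr f q (so k A) g)) := by
    have e := Equiv.ofBijective _ (som_bijective (k := k) W A)
    constructor
    · intro g g' h
      obtain ⟨j, rfl⟩ := (som_bijective (k := k) W A).2 g
      obtain ⟨j', rfl⟩ := (som_bijective (k := k) W A).2 g'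
      exact congrArg som (h1.1 h)
    · intro v
      obtain ⟨j, hj⟩ := h1.2 v
      exact ⟨som j, hj⟩
  exact (Function.Bijective.of_comp_iff' (ptEquiv β A).bijective _).1 h3

end K983.UnitsRep
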