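import Groth.Agent.CGrpSh3.K983.SecTensor
import Groth.Agent.Sga3B.AffYoneda
import Groth.Prelude.Def_Red

/-!
# Group schemes over a field and their points with values in algebras

`exists_iso`: two group schemes over a field whose groups of points with values in algebras are naturally
isomorphic are isomorphic.
-/

set_option autoImplicit false
universe u
open CategoryTheory CategoryTheory.Limits AlgebraicGeometry MonoidalCategory CartesianMonoidalCategory MonObj

namespace K983.AlgPts

open K983.SecTensor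

variable {K : Type u} [Field K] {G H : Over (Spec (CommRingCat.of K))}

theorem hom_ext {φ ψ : G ⟶ H} (h : ∀ (A : Type u) [CommRing A] [Algebra K A] (g : so K A ⟶ G), g ≫ φ = g ≫ ψ) :
    φ = ψ := by
  apply Groth.Agent.Sga3B.AffYoneda.hom_ext
  intro R s g
  obtain ⟨φ, rfl⟩ := Spec.map_surjective s
  let _ : Algebra K R := φ.hom.toAlgebra
  exact h R g

/-- the comparison isomorphism -/
noncomputable def sIso (R : CommRingCat.{u}) (s : Spec R ⟶ Spec (CommRingCat.of K)) :
    letI : Algebra K R := (Spec.preimage s).hom.toAlgebra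
    Over.mk s ≅ so K R :=
  letI : Algebra K R := (Spec.preimage s).hom.toAlgebra
  Over.isoMk (Iso.refl _) (by
    change 𝟙 _ ≫ Spec.map (Spec.preimage s) = s
    rw [Spec.map_preimage, Category.id_comp])

theorem exists_hom
    (F : ∀ (A : Type u) [CommRing A] [Algebra K A], (so K A ⟶ G) → (so K A ⟶ H))
    (hF : ∀ {A A' : Type u} [CommRing A] [Algebra K A] [CommRing A'] [Algebra K A'] (j : A →ₐ[K] A')
      (g : so K A ⟶ G), F A' (som j ≫ g) = som j ≫ F A g) :
    ∃ φ : G ⟶ H, ∀ (A : Type u) [CommRing A] [Algebra K A] (g : so K A ⟶ G), g ≫ φ = F A g := by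
  let F' : ∀ (R : CommRingCat.{u}) (s : Spec R ⟶ Spec (CommRingCat.of K)), (Over.mk s ⟶ G) → (Over.mk s ⟶ H) :=
    fun R s g =>
      letI : Algebra K R := (Spec.preimage s).hom.toAlgebra
      (sIso R s).hom ≫ F R ((sIso R s).inv ≫ g)
  obtain ⟨φ, hφ, -⟩ := Groth.Agent.Sga3B.AffYoneda.existsUnique_hom F' (by
    intro R R' s s' h g
    let _ : Algebra K R := (Spec.preimage s).hom.toAlgebra
    let _ : Algebra K R' := (Spec.preimage s').hom.toAlgebra
    obtain ⟨j, hj⟩ := (som_bijective (k := K) R R').2 ((sIso R' s').inv ≫ h ≫ (sIso R s).hom)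
    have h1 : (sIso R' s').inv ≫ h ≫ g = som j ≫ (sIso R s).inv ≫ g := by
      rw [hj]
      simp
    change (sIso R' s').hom ≫ F R' ((sIso R' s').inv ≫ h ≫ g) = h ≫ (sIso R s).hom ≫ F R ((sIso R s).inv ≫ g)
    rw [h1, hF, hj]
    simp)
  refine ⟨φ, fun A _ _ g => ?_⟩
  have h1 := hφ (CommRingCat.of A) (Spec.map (CommRingCat.ofHom (algebraMap K A))) g
  rw [h1]
  -- compare the two algebra structures
  have hpre : Spec.preimage (Spec.map (CommRingCat.ofHom (algebraMap K A))) =
      CommRingCat.ofHom (algebraMap K A) := Spec.preimage_map _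
  have key : ∀ (ψ : CommRingCat.of K ⟶ CommRingCat.of A) (hψ : ψ = CommRingCat.ofHom (algebraMap K A))
      (e : Over.mk (Spec.map (CommRingCat.ofHom (algebraMap K A))) ≅
        (letI : Algebra K A := ψ.hom.toAlgebra; so K A)) (he : e.hom.left = 𝟙 _),
      (letI : Algebra K A := ψ.hom.toAlgebra; e.hom ≫ F A (e.inv ≫ g)) = F A g := by
    intro ψ hψ e he
    subst hψ
    have h2 : (CommRingCat.ofHom (algebraMap K A)).hom.toAlgebra = ‹Algebra K A› := by
      exact Algebra.algebra_ext _ _ (fun r => rfl)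
    revert e
    change ∀ e : Over.mk (Spec.map (CommRingCat.ofHom (algebraMap K A))) ≅
        (letI : Algebra K A := (CommRingCat.ofHom (algebraMap K A)).hom.toAlgebra; so K A), _
    rw [h2]
    intro e he
    have h3 : e = Iso.refl _ := by
      ext1
      apply Over.OverMorphism.ext
      exact he
    rw [h3]
    simp
  exact key _ hpre (sIso _ _) rfl

/-- Group schemes with naturally isomorphic groups of points are isomorphic. -/
theorem exists_iso [GrpObj G] [GrpObj H]
    (E : ∀ (A : Type u) [CommRing A] [Algebra K A], (so K A ⟶ G) ≃* (so K A ⟶ H))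
    (hE : ∀ {A A' : Type u} [CommRing A] [Algebra K A] [CommRing A'] [Algebra K A'] (j : A →ₐ[K] A')
      (g : so K A ⟶ G), E A' (som j ≫ g) = som j ≫ E A g) :
    Nonempty (Grp.mk G ≅ Grp.mk H) := by
  obtain ⟨φ, hφ⟩ := exists_hom (fun A _ _ g => E A g) hE
  obtain ⟨ψ, hψ⟩ := exists_hom (G := H) (H := G) (fun A _ _ g => (E A).symm g) (by
    intro A A' _ _ _ _ j g
    apply (E A').injective
    simp only [MulEquiv.apply_symm_apply]
    rw [hE, MulEquiv.apply_symm_apply])
  have h1 : φ ≫ ψ = 𝟙 G := by
    apply hom_ext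
    intro A _ _ g
    rw [← Category.assoc, hφ, hψ, MulEquiv.symm_apply_apply, Category.comp_id]
  have h2 : ψ ≫ φ = 𝟙 H := by
    apply hom_ext
    intro A _ _ g
    rw [← Category.assoc, hψ, hφ, MulEquiv.apply_symm_apply, Category.comp_id]
  have h3 : IsIso φ := ⟨ψ, h1, h2⟩
  have h4 : IsMonHom φ := by
    constructor
    · apply hom_ext
      intro A _ _ g
      rw [← Category.assoc, hφ]
      have e1 : g ≫ η[G] = 1 := by
        rw [Hom.one_def]
        congr 1
        exact toUnit_unique _ _
      have e2 : g ≫ η[H] = 1 := by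
        rw [Hom.one_def]
        congr 1
        exact toUnit_unique _ _
      rw [e1, e2, map_one]
    · apply hom_ext
      intro A _ _ g
      rw [← Category.assoc, hφ]
      have e0 : g = lift (g ≫ fst G G) (g ≫ snd G G) := by
        apply CartesianMonoidalCategory.hom_ext <;> simp
      have e1 : g ≫ μ[G] = (g ≫ fst G G) * (g ≫ snd G G) := by
        rw [Hom.mul_def, ← e0]
      rw [e1, map_mul, ← hφ, ← hφ, Hom.mul_def, ← Category.assoc]
      congr 1
      apply CartesianMonoidalCategory.hom_ext <;> simp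
  exact ⟨Grp.mkIso' (asIso φ)⟩

end K983.AlgPts
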