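import Groth.Prelude.Def_WeilRes
import Groth.Prelude.Def_GmPts
import Groth.Agent.Pi1C.WeilAlg
import Mathlib.AlgebraicGeometry.Morphisms.Flat

/-!
# Functions on a base change of a quasi-compact quasi-separated scheme over a field

For `f : X ⟶ Spec k` quasi-compact and quasi-separated over a field and a `k`-algebra `A`, the ring map
`A ⊗[k] Γ(X, ⊤) → Γ(Spec A ×_k X, ⊤)` is bijective (`secMap_bijective`) and natural in `A` (`secMap_nat`).
-/

set_option autoImplicit false
universe u
open CategoryTheory CategoryTheory.Limits AlgebraicGeometry TensorProduct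

namespace K983.SecTensor

variable {k : Type u} [Field k]

/-- `Spec A` over `Spec k` -/
noncomputable abbrev so (k : Type u) [Field k] (A : Type u) [CommRing A] [Algebra k A] :
    Over (Spec (CommRingCat.of k)) :=
  Over.mk (Spec.map (CommRingCat.ofHom (algebraMap k A)))

/-- the morphism given by an algebra map -/
noncomputable def som {A A' : Type u} [CommRing A] [CommRing A'] [Algebra k A] [Algebra k A']
    (j : A →ₐ[k] A') : so k A' ⟶ so k A :=
  Over.homMk (Spec.map (CommRingCat.ofHom j.toRingHom)) (by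
    change Spec.map _ ≫ Spec.map _ = Spec.map _
    rw [← Spec.map_comp, ← CommRingCat.ofHom_comp]
    congr 2
    exact j.comp_algebraMap)

theorem som_bijective (A A' : Type u) [CommRing A] [CommRing A'] [Algebra k A] [Algebra k A'] :
    Function.Bijective (som : (A →ₐ[k] A') → (so k A' ⟶ so k A)) := by
  constructor
  · intro j j' h
    have h1 : Spec.map (CommRingCat.ofHom j.toRingHom) = Spec.map (CommRingCat.ofHom j'.toRingHom) :=
      congrArg (fun z => z.left) h
    have h2 := Spec.map_injective h1
    have h3 : j.toRingHom = j'.toRingHom := congrArg CommRingCat.Hom.hom h2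
    exact AlgHom.coe_ringHom_injective h3
  · intro g
    obtain ⟨φ, hφ⟩ := Spec.map_surjective g.left
    have hw : g.left ≫ Spec.map (CommRingCat.ofHom (algebraMap k A)) =
      Spec.map (CommRingCat.ofHom (algebraMap k A')) := Over.w g
    rw [← hφ, ← Spec.map_comp] at hw
    have h1 := congrArg CommRingCat.Hom.hom (Spec.map_injective hw)
    refine ⟨{ φ.hom with commutes' := fun r => congr($h1 r) }, ?_⟩
    apply Over.OverMorphism.ext
    exact hφ

variable {X : Scheme.{u}} (f : X ⟶ Spec (CommRingCat.of k))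

theorem isPushout_top (A : Type u) [CommRing A] [Algebra k A] [QuasiCompact f] [QuasiSeparated f] :
    IsPushout (CommRingCat.ofHom (algebraMap k A))
      ((Scheme.ΓSpecIso (CommRingCat.of k)).inv ≫ f.appTop)
      ((Scheme.ΓSpecIso (CommRingCat.of A)).inv ≫
        (pullback.fst (Spec.map (CommRingCat.ofHom (algebraMap k A))) f).appTop)
      (pullback.snd (Spec.map (CommRingCat.ofHom (algebraMap k A))) f).appTop := by
  have hfl : Flat (Spec.map (CommRingCat.ofHom (algebraMap k A))) := by
    rw [HasRingHomProperty.Spec_iff (P := @Flat)]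
    exact (RingHom.flat_algebraMap_iff).mpr inferInstance
  have hc : CompactSpace X := QuasiCompact.compactSpace_of_compactSpace f
  have hq : QuasiSeparatedSpace X := quasiSeparatedSpace_of_quasiSeparated f
  have H := (IsPullback.of_hasPullback (Spec.map (CommRingCat.ofHom (algebraMap k A))) f).flip
  have h := isIso_pushoutSection_of_isQuasiSeparated_of_flat_right H
    (US := ⊤) (UT := ⊤) (UX := ⊤) (UY := ⊤) le_top le_top (by simp)
    (isAffineOpen_top _) (isAffineOpen_top _) isCompact_univ
    (isQuasiSeparated_univ_iff.mpr ‹_›)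
  have h := (isIso_pushoutSection_iff H
    (US := ⊤) (UT := ⊤) (UX := ⊤) (UY := ⊤) le_top le_top (by simp)).mp h
  have e1 : f.appLE ⊤ ⊤ le_top = f.appTop := Scheme.Hom.appLE_eq_app ..
  have e2 : (Spec.map (CommRingCat.ofHom (algebraMap k A))).appLE ⊤ ⊤ le_top =
    (Spec.map (CommRingCat.ofHom (algebraMap k A))).appTop := Scheme.Hom.appLE_eq_app ..
  have e3 : (pullback.fst (Spec.map (CommRingCat.ofHom (algebraMap k A))) f).appLE ⊤ ⊤ le_top =
    (pullback.fst (Spec.map (CommRingCat.ofHom (algebraMap k A))) f).appTop :=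
    Scheme.Hom.appLE_eq_app ..
  have e4 : (pullback.snd (Spec.map (CommRingCat.ofHom (algebraMap k A))) f).appLE ⊤ ⊤ le_top =
    (pullback.snd (Spec.map (CommRingCat.ofHom (algebraMap k A))) f).appTop :=
    Scheme.Hom.appLE_eq_app ..
  rw [e1, e2, e3, e4] at h
  refine h.flip.of_iso (Scheme.ΓSpecIso (CommRingCat.of k)) (Scheme.ΓSpecIso (CommRingCat.of A))
    (Iso.refl _) (Iso.refl _) ?_ ?_ ?_ ?_
  · exact (Scheme.ΓSpecIso_naturality _)
  · simp
  · simp
  · simp

section

variable (B : Type u) [CommRing B] [Algebra k B]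

/-- `B` is identified with the `k`-algebra `Γ(X, ⊤)`. -/
structure TopAlg where
  /-- the ring isomorphism -/
  iso : CommRingCat.of B ≅ Γ(X, ⊤)
  comm : CommRingCat.ofHom (algebraMap k B) ≫ iso.hom =
    (Scheme.ΓSpecIso (CommRingCat.of k)).inv ≫ f.appTop

variable {B f} (β : TopAlg f B)

/-- The map `A → Γ(Spec A ×_k X, ⊤)`. -/
noncomputable def lMap (f : X ⟶ Spec (CommRingCat.of k)) (A : Type u) [CommRing A] [Algebra k A] :
    CommRingCat.of A ⟶ Γ((Red.bc f (so k A)).left, ⊤) :=
  (Scheme.ΓSpecIso (CommRingCat.of A)).inv ≫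
    (pullback.fst (Spec.map (CommRingCat.ofHom (algebraMap k A))) f).appTop

/-- The map `Γ(X, ⊤) → Γ(Spec A ×_k X, ⊤)`. -/
noncomputable def rMap (A : Type u) [CommRing A] [Algebra k A] :
    CommRingCat.of B ⟶ Γ((Red.bc f (so k A)).left, ⊤) :=
  β.iso.hom ≫ (pullback.snd (Spec.map (CommRingCat.ofHom (algebraMap k A))) f).appTop

include β in
theorem isPushout (A : Type u) [CommRing A] [Algebra k A] [QuasiCompact f] [QuasiSeparated f] :
    IsPushout (CommRingCat.ofHom (algebraMap k A)) (CommRingCat.ofHom (algebraMap k B))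
      (lMap f A) (rMap β A) := by
  refine (isPushout_top f A).of_iso (Iso.refl _) (Iso.refl _) β.iso.symm (Iso.refl _) ?_ ?_ ?_ ?_
  · simp
  · rw [← β.comm]
    simp
  · simp [lMap]
  · simp [rMap]

/-- `A ⊗ B = Γ(Spec A ×_k X, ⊤)` -/
noncomputable def secIso (A : Type u) [CommRing A] [Algebra k A] [QuasiCompact f] [QuasiSeparated f] :
    CommRingCat.of (A ⊗[k] B) ≅ Γ((Red.bc f (so k A)).left, ⊤) :=
  (CommRingCat.isPushout_tensorProduct k A B).isoIsPushout _ _ (isPushout β A)

variable [QuasiCompact f] [QuasiSeparated f]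

@[reassoc]
theorem inl_secIso (A : Type u) [CommRing A] [Algebra k A] :
    CommRingCat.ofHom (Algebra.TensorProduct.includeLeftRingHom (R := k) (A := A) (B := B)) ≫
      (secIso β A).hom = lMap f A :=
  IsPushout.inl_isoIsPushout_hom _ _ _ _

@[reassoc]
theorem inr_secIso (A : Type u) [CommRing A] [Algebra k A] :
    CommRingCat.ofHom (Algebra.TensorProduct.includeRight (R := k) (A := A) (B := B)).toRingHom ≫
      (secIso β A).hom = rMap β A :=
  IsPushout.inr_isoIsPushout_hom _ _ _ _

theorem secIso_tmul (A : Type u) [CommRing A] [Algebra k A] (a : A) (b : B) :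
    (secIso β A).hom.hom (a ⊗ₜ b) = (lMap f A).hom a * (rMap β A).hom b := by
  have h1 : (a ⊗ₜ[k] b : A ⊗[k] B) = a ⊗ₜ 1 * 1 ⊗ₜ b := by simp
  rw [h1, map_mul]
  congr 1
  · exact congr($(inl_secIso β A).hom a)
  · exact congr($(inr_secIso β A).hom b)

theorem secIso_nat {A A' : Type u} [CommRing A] [CommRing A'] [Algebra k A] [Algebra k A']
    (j : A →ₐ[k] A') (z : A ⊗[k] B) :
    ((Over.pullback f).map (som j)).left.appTop.hom ((secIso β A).hom.hom z) =
      (secIso β A').hom.hom (Algebra.TensorProduct.map j (AlgHom.id k B) z) := by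
  have h1 : lMap f A ≫ ((Over.pullback f).map (som j)).left.appTop =
      CommRingCat.ofHom j.toRingHom ≫ lMap f A' := by
    have e1 : ((Over.pullback f).map (som j)).left ≫
        pullback.fst (Spec.map (CommRingCat.ofHom (algebraMap k A))) f =
        pullback.fst (Spec.map (CommRingCat.ofHom (algebraMap k A'))) f ≫
          Spec.map (CommRingCat.ofHom j.toRingHom) := pullback.lift_fst _ _ _
    unfold lMap
    rw [Category.assoc]
    erw [← Scheme.Hom.comp_appTop]
    rw [e1, Scheme.Hom.comp_appTop, ← Scheme.ΓSpecIso_inv_naturality_assoc]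
  have h2 : rMap β A ≫ ((Over.pullback f).map (som j)).left.appTop = rMap β A' := by
    have e1 : ((Over.pullback f).map (som j)).left ≫
        pullback.snd (Spec.map (CommRingCat.ofHom (algebraMap k A))) f =
        pullback.snd (Spec.map (CommRingCat.ofHom (algebraMap k A'))) f := pullback.lift_snd _ _ _
    unfold rMap
    rw [Category.assoc]
    erw [← Scheme.Hom.comp_appTop]
    rw [e1]
  induction z with
  | zero => simp
  | add x y hx hy => simp only [map_add, hx, hy]
  | tmul a b =>
    rw [secIso_tmul, Algebra.TensorProduct.map_tmul, secIso_tmul, map_mul]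
    congr 1
    · exact congr($(h1).hom a)
    · exact congr($(h2).hom b)

end

end K983.SecTensor
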