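import Mathlib.RingTheory.Artinian.Module
import Mathlib.FieldTheory.IsAlgClosed.Basic
import Mathlib.RingTheory.TensorProduct.Pi
import Mathlib.RingTheory.TensorProduct.Free

/-!
# Finite reduced algebras over an algebraically closed field

* `exists_pi`: a finite reduced algebra over an algebraically closed field is a finite product of copies of
  the field;
* `coordMap_bijective`: if `K ⊗[k] B ≃ Kⁿ` through the algebra maps `c i : B → K`, then `A ⊗[k] B ≃ Aⁿ` for every
  `K`-algebra `A`, by `a ⊗ b ↦ (a * c i b)`.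
-/

set_option autoImplicit false
universe u
open TensorProduct

namespace K983.SplitRed

theorem exists_pi (K C : Type u) [Field K] [IsAlgClosed K] [CommRing C] [Algebra K C] [Module.Finite K C]
    [IsReduced C] : ∃ n : ℕ, Nonempty (C ≃ₐ[K] (Fin n → K)) := by
  have : IsArtinianRing C := IsArtinianRing.of_finite K C
  let e1 : C ≃ₐ[C] ∀ I : MaximalSpectrum C, C ⧸ I.asIdeal := IsArtinianRing.equivPi C
  let e2 : C ≃ₐ[K] ∀ I : MaximalSpectrum C, C ⧸ I.asIdeal := e1.restrictScalars K
  have h3 : ∀ I : MaximalSpectrum C, Function.Bijective (algebraMap K (C ⧸ I.asIdeal)) := by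
    intro I
    have := I.isMaximal
    let _ : Field (C ⧸ I.asIdeal) := Ideal.Quotient.field _
    exact IsAlgClosed.algebraMap_bijective_of_isIntegral
  let e3 : ∀ I : MaximalSpectrum C, K ≃ₐ[K] (C ⧸ I.asIdeal) := fun I =>
    AlgEquiv.ofBijective (Algebra.ofId K _) (h3 I)
  let e4 : (∀ I : MaximalSpectrum C, C ⧸ I.asIdeal) ≃ₐ[K] (MaximalSpectrum C → K) :=
    AlgEquiv.piCongrRight fun I => (e3 I).symm
  have : Finite (MaximalSpectrum C) := inferInstance
  let n := Nat.card (MaximalSpectrum C)
  let e5 : MaximalSpectrum C ≃ Fin n := Finite.equivFin _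
  exact ⟨n, ⟨(e2.trans e4).trans (AlgEquiv.piCongrLeft K (fun _ => K) e5)⟩⟩

variable {k K B : Type u} [Field k] [Field K] [CommRing B] [Algebra k K] [Algebra k B] {n : ℕ}
  (c : Fin n → (B →ₐ[k] K))

/-- `a ⊗ b ↦ (a * c i b)_i` -/
noncomputable def coordMap (A : Type u) [CommRing A] [Algebra k A] [Algebra K A] [IsScalarTower k K A] :
    A ⊗[k] B →ₐ[A] (Fin n → A) :=
  Algebra.TensorProduct.lift (Algebra.ofId A (Fin n → A))
    (AlgHom.pi (R := k) (A := fun _ : Fin n => A) fun i =>
      ((Algebra.ofId K A).restrictScalars k).comp (c i)) (fun _ _ => Commute.all _ _)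

@[simp]
theorem coordMap_tmul (A : Type u) [CommRing A] [Algebra k A] [Algebra K A] [IsScalarTower k K A]
    (a : A) (b : B) (i : Fin n) : coordMap c A (a ⊗ₜ b) i = a * algebraMap K A (c i b) := rfl

theorem coordMap_nat {A A' : Type u} [CommRing A] [Algebra k A] [Algebra K A] [IsScalarTower k K A]
    [CommRing A'] [Algebra k A'] [Algebra K A'] [IsScalarTower k K A'] (j : A →ₐ[K] A')
    (z : A ⊗[k] B) (i : Fin n) :
    coordMap c A' (Algebra.TensorProduct.map (j.restrictScalars k) (AlgHom.id k B) z) i =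
      j (coordMap c A z i) := by
  induction z with
  | zero => simp
  | add x y hx hy => simp only [map_add, Pi.add_apply, hx, hy]
  | tmul a b => simp

theorem coordMap_bijective (h : Function.Bijective (coordMap c K)) (A : Type u) [CommRing A] [Algebra k A]
    [Algebra K A] [IsScalarTower k K A] : Function.Bijective (coordMap c A) := by
  let e0 : K ⊗[k] B ≃ₐ[K] (Fin n → K) := AlgEquiv.ofBijective (coordMap c K) h
  let e1 : A ⊗[K] (K ⊗[k] B) ≃ₐ[A] A ⊗[k] B := Algebra.TensorProduct.cancelBaseChange k K A A B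
  let e2 : A ⊗[K] (K ⊗[k] B) ≃ₐ[A] A ⊗[K] (Fin n → K) := Algebra.TensorProduct.congr AlgEquiv.refl e0
  let e3 : A ⊗[K] (Fin n → K) ≃ₐ[A] (Fin n → A) := Algebra.TensorProduct.piScalarRight K A A (Fin n)
  let e : A ⊗[k] B ≃ₐ[A] (Fin n → A) := e1.symm.trans (e2.trans e3)
  have he : ∀ z, coordMap c A z = e z := by
    intro z
    obtain ⟨w, rfl⟩ := e1.surjective z
    have h1 : e (e1 w) = e3 (e2 w) := by simp [e]
    rw [h1]
    clear h1
    induction w with
    | zero => simp
    | add x y hx hy => simp only [map_add, hx, hy]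
    | tmul a y =>
      induction y with
      | zero => simp
      | add x y hx hy =>
        rw [tmul_add]
        simp only [map_add, hx, hy]
      | tmul l b =>
        ext i
        have h2 : e1 (a ⊗ₜ[K] (l ⊗ₜ[k] b)) = (l • a) ⊗ₜ[k] b := by
          simp [e1]
        have h3 : e2 (a ⊗ₜ[K] (l ⊗ₜ[k] b)) = a ⊗ₜ[K] (coordMap c K (l ⊗ₜ b)) := rfl
        rw [h2, h3, coordMap_tmul]
        simp only [e3]
        rw [Algebra.TensorProduct.piScalarRight_tmul]
        simp [Algebra.smul_def, mul_comm, mul_assoc]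
  have : (coordMap c A : A ⊗[k] B → (Fin n → A)) = e := funext he
  rw [this]
  exact e.bijective

/-- A finite geometrically reduced algebra splits over an algebraically closed field. -/
theorem exists_coord (k K B : Type u) [Field k] [Field K] [IsAlgClosed K] [CommRing B] [Algebra k K] [Algebra k B]
    [Module.Finite k B] [IsReduced (K ⊗[k] B)] :
    ∃ (n : ℕ) (c : Fin n → (B →ₐ[k] K)), Function.Bijective (coordMap c K) := by
  obtain ⟨n, ⟨e⟩⟩ := exists_pi K (K ⊗[k] B)
  let c : Fin n → (B →ₐ[k] K) := fun i =>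
    ((Pi.evalAlgHom k (fun _ : Fin n => K) i).comp (e.toAlgHom.restrictScalars k)).comp
      Algebra.TensorProduct.includeRight
  refine ⟨n, c, ?_⟩
  have h1 : (coordMap c K : K ⊗[k] B → (Fin n → K)) = e := by
    funext z
    induction z with
    | zero => simp
    | add x y hx hy => simp only [map_add, hx, hy]
    | tmul l b =>
      have h2 : (l ⊗ₜ[k] b : K ⊗[k] B) = l • (1 ⊗ₜ b) := by
        rw [TensorProduct.smul_tmul', smul_eq_mul, mul_one]
      rw [h2, map_smul, map_smul]
      congr 1
      ext i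
      rw [coordMap_tmul]
      simp [c]
  rw [h1]
  exact e.bijective

end K983.SplitRed
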