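import Groth.Agent.CGrpSh3.K983.UnitsRep
import Groth.Agent.CGrpSh3.K983.SplitRed
import Groth.Agent.CGrpSh3.K983.AlgPts
import Groth.Agent.Sga3B.DSPts
import Groth.Agent.Sga3B.MT.TorusFam
import Mathlib.Algebra.Group.Pi.Units

/-!
# The direct image of the multiplicative group along a proper smooth scheme over a field is a torus

`isTorus`: if the affine group scheme `W` over `k` represents `f_* 𝔾_m` and `K ⊗ Γ(X, ⊤)` is a finite product of
copies of the algebraically closed field `K`, then `W` is a torus.
-/

set_option autoImplicit false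
universe u
open CategoryTheory CategoryTheory.Limits AlgebraicGeometry TensorProduct MonoidalCategory
open CartesianMonoidalCategory MonObj

namespace K983.TorusPush

open K983.SecTensor K983.UnitsRep K983.SplitRed K983.AlgPts Groth.Agent.Sga3B.DSPts

section Chars

variable {n : ℕ} {M : Type u} [CommMonoid M]

/-- the values of a character of `ℤⁿ` on the basis -/
noncomputable def charVal (χ : Multiplicative (Fin n → ℤ) →* M) : (Fin n → M)ˣ where
  val i := χ (Multiplicative.ofAdd (Pi.single i 1))
  inv i := χ (Multiplicative.ofAdd (-Pi.single i 1))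
  val_inv := by
    funext i
    change χ _ * χ _ = 1
    rw [← map_mul, ← ofAdd_add, add_neg_cancel]
    exact map_one χ
  inv_val := by
    funext i
    change χ _ * χ _ = 1
    rw [← map_mul, ← ofAdd_add, neg_add_cancel]
    exact map_one χ

theorem charVal_apply (χ : Multiplicative (Fin n → ℤ) →* M) (i : Fin n) :
    (charVal χ : Fin n → M) i = χ (Multiplicative.ofAdd (Pi.single i 1)) := rfl

theorem charVal_mul (χ χ' : Multiplicative (Fin n → ℤ) →* M) : charVal (χ * χ') = charVal χ * charVal χ' := by
  apply Units.ext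
  funext i
  rfl

theorem charVal_bijective : Function.Bijective (charVal : (Multiplicative (Fin n → ℤ) →* M) → (Fin n → M)ˣ) := by
  constructor
  · intro χ χ' h
    have h1 : ∀ i, χ (Multiplicative.ofAdd (Pi.single i 1)) = χ' (Multiplicative.ofAdd (Pi.single i 1)) :=
      fun i => congrFun (congrArg Units.val h) i
    -- pass to units
    let a : Multiplicative (Fin n → ℤ) →* Mˣ := (Units.map χ).comp toUnits.toMonoidHom
    let a' : Multiplicative (Fin n → ℤ) →* Mˣ := (Units.map χ').comp toUnits.toMonoidHom
    have h3 : MonoidHom.toAdditiveRight a = MonoidHom.toAdditiveRight a' := by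
      apply AddMonoidHom.functions_ext
      intro i z
      have e1 : Pi.single i z = z • (Pi.single i 1 : Fin n → ℤ) := by
        rw [← Pi.single_smul]
        simp
      rw [e1, map_zsmul, map_zsmul]
      congr 1
      exact congrArg Additive.ofMul (Units.ext (h1 i))
    have h4 : a = a' := MonoidHom.toAdditiveRight.injective h3
    refine MonoidHom.ext fun x => ?_
    exact congrArg Units.val (DFunLike.congr_fun h4 x)
  · intro v
    let w : Fin n → Mˣ := MulEquiv.piUnits v
    let a : (Fin n → ℤ) →+ Additive Mˣ :=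
      { toFun := fun x => ∑ i, x i • Additive.ofMul (w i)
        map_zero' := by simp
        map_add' := fun x y => by simp [add_smul, Finset.sum_add_distrib] }
    refine ⟨(Units.coeHom M).comp (AddMonoidHom.toMultiplicativeLeft a), ?_⟩
    apply Units.ext
    funext i
    rw [charVal_apply]
    have h1 : a (Pi.single i 1) = Additive.ofMul (w i) := by
      change ∑ j, (Pi.single i 1 : Fin n → ℤ) j • Additive.ofMul (w j) = _
      rw [Finset.sum_eq_single i]
      · simp
      · intro j _ hj
        simp [hj]
      · simp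
    change ((a (Pi.single i 1)).toMul : M) = _
    rw [h1]
    rfl

end Chars

section Split

variable {K : Type u} [Field K] {n : ℕ}

/-- The points of a split torus with values in an algebra. -/
noncomputable def dsVal (A : Type u) [CommRing A] [Algebra K A]
    (x : so K A ⟶ Red.DS (Spec (CommRingCat.of K)) (Fin n → ℤ)) : (Fin n → A)ˣ :=
  charVal ((Scheme.ΓSpecIso (CommRingCat.of A)).hom.hom.toMonoidHom.comp (dsChar x))

theorem dsVal_apply (A : Type u) [CommRing A] [Algebra K A]
    (x : so K A ⟶ Red.DS (Spec (CommRingCat.of K)) (Fin n → ℤ)) (i : Fin n) :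
    (dsVal A x : Fin n → A) i =
      (Scheme.ΓSpecIso (CommRingCat.of A)).hom.hom (dsChar x (Multiplicative.ofAdd (Pi.single i 1))) := rfl

theorem dsVal_mul (A : Type u) [CommRing A] [Algebra K A]
    (x y : so K A ⟶ Red.DS (Spec (CommRingCat.of K)) (Fin n → ℤ)) : dsVal A (x * y) = dsVal A x * dsVal A y := by
  apply Units.ext
  funext i
  rw [Units.val_mul, Pi.mul_apply, dsVal_apply, dsVal_apply, dsVal_apply, dsChar_mul, MonoidHom.mul_apply, map_mul]

theorem dsVal_som {A A' : Type u} [CommRing A] [Algebra K A] [CommRing A'] [Algebra K A'] (j : A →ₐ[K] A')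
    (x : so K A ⟶ Red.DS (Spec (CommRingCat.of K)) (Fin n → ℤ)) (i : Fin n) :
    (dsVal A' (som j ≫ x) : Fin n → A') i = j ((dsVal A x : Fin n → A) i) := by
  rw [dsVal_apply, dsVal_apply, dsChar_comp]
  change (Scheme.ΓSpecIso (CommRingCat.of A')).hom.hom ((Spec.map (CommRingCat.ofHom j.toRingHom)).appTop.hom _) = _
  exact congr($(Scheme.ΓSpecIso_naturality (CommRingCat.ofHom j.toRingHom)).hom _)

theorem dsVal_bijective (A : Type u) [CommRing A] [Algebra K A] :
    Function.Bijective (dsVal A : (so K A ⟶ Red.DS (Spec (CommRingCat.of K)) (Fin n → ℤ)) → (Fin n → A)ˣ) := by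
  refine charVal_bijective.comp ?_
  have h1 : Function.Bijective (fun x : so K A ⟶ Red.DS (Spec (CommRingCat.of K)) (Fin n → ℤ) => dsChar x) :=
    (dsEquiv (so K A) (Fin n → ℤ)).symm.bijective
  refine Function.Bijective.comp (g := fun χ : Multiplicative (Fin n → ℤ) →* Γ((so K A).left, ⊤) =>
    (Scheme.ΓSpecIso (CommRingCat.of A)).hom.hom.toMonoidHom.comp χ) ?_ h1
  have e := (Scheme.ΓSpecIso (CommRingCat.of A)).commRingCatIsoToRingEquiv
  constructor
  · intro χ χ' h
    refine MonoidHom.ext fun x => ?_
    apply (Scheme.ΓSpecIso (CommRingCat.of A)).commRingCatIsoToRingEquiv.injective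
    exact DFunLike.congr_fun h x
  · intro χ
    refine ⟨(Scheme.ΓSpecIso (CommRingCat.of A)).inv.hom.toMonoidHom.comp χ, ?_⟩
    refine MonoidHom.ext fun x => ?_
    exact (Scheme.ΓSpecIso (CommRingCat.of A)).commRingCatIsoToRingEquiv.apply_symm_apply _

/-- The points of a split torus with values in an algebra. -/
noncomputable def dsValEquiv (A : Type u) [CommRing A] [Algebra K A] :
    (so K A ⟶ Red.DS (Spec (CommRingCat.of K)) (Fin n → ℤ)) ≃* (Fin n → A)ˣ :=
  MulEquiv.ofBijective (MulHom.mk (dsVal A) (dsVal_mul A)) (dsVal_bijective A)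

end Split

section Main

variable {k K : Type u} [Field k] [Field K] [Algebra k K] {X : Scheme.{u}} {f : X ⟶ Spec (CommRingCat.of k)}
  [QuasiCompact f] [QuasiSeparated f]
  {B : Type u} [CommRing B] [Algebra k B] (β : TopAlg f B)

/-- the base change morphism -/
noncomputable abbrev pK (k K : Type u) [Field k] [Field K] [Algebra k K] :
    Spec (CommRingCat.of K) ⟶ Spec (CommRingCat.of k) :=
  Spec.map (CommRingCat.ofHom (algebraMap k K))

/-- `Spec A` over `Spec k` -/
noncomputable def jA (A : Type u) [CommRing A] [Algebra k A] [Algebra K A] [IsScalarTower k K A] :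
    so k A ≅ (Over.map (pK k K)).obj (so K A) :=
  Over.isoMk (Iso.refl _) (by
    change 𝟙 _ ≫ Spec.map _ ≫ Spec.map _ = Spec.map _
    rw [Category.id_comp, ← Spec.map_comp, ← CommRingCat.ofHom_comp, ← IsScalarTower.algebraMap_eq])

theorem som_jA {A A' : Type u} [CommRing A] [Algebra k A] [Algebra K A] [IsScalarTower k K A]
    [CommRing A'] [Algebra k A'] [Algebra K A'] [IsScalarTower k K A'] (j : A →ₐ[K] A') :
    som (j.restrictScalars k) ≫ (jA (k := k) (K := K) A).hom =
      (jA (k := k) (K := K) A').hom ≫ (Over.map (pK k K)).map (som j) := by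
  apply Over.OverMorphism.ext
  change Spec.map _ ≫ 𝟙 _ = 𝟙 _ ≫ Spec.map _
  rw [Category.id_comp, Category.comp_id]
  rfl

variable {W : Over (Spec (CommRingCat.of k))} [GrpObj W] {q : Red.bc f W ⟶ Red.Gm X}

/-- The unit of `A ⊗ B` attached to a point of the base change of `W`. -/
noncomputable def wVal (q : Red.bc f W ⟶ Red.Gm X) (A : Type u) [CommRing A] [Algebra k A] [Algebra K A]
    [IsScalarTower k K A] (g : so K A ⟶ Red.bc (pK k K) W) : (A ⊗[k] B)ˣ :=
  ptEquiv β A (WeilRes.restr f q (so k A) ((jA A).hom ≫ (bcEquiv (pK k K) (so K A) W).symm g))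

theorem wVal_som {A A' : Type u} [CommRing A] [Algebra k A] [Algebra K A] [IsScalarTower k K A]
    [CommRing A'] [Algebra k A'] [Algebra K A'] [IsScalarTower k K A'] (j : A →ₐ[K] A')
    (g : so K A ⟶ Red.bc (pK k K) W) :
    wVal β q A' (som j ≫ g) =
      Units.map (Algebra.TensorProduct.map (j.restrictScalars k) (AlgHom.id k B) : A ⊗[k] B →* A' ⊗[k] B)
        (wVal β q A g) := by
  unfold wVal
  rw [← bcEquiv_symm_naturality, ← Category.assoc, ← som_jA, Category.assoc, WeilRes.restr_comp, ptEquiv_som]

theorem wVal_bijective (hq : WeilRes.IsWeilRes f (Red.Gm X) W q) (A : Type u) [CommRing A] [Algebra k A] [Algebra K A]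
    [IsScalarTower k K A] :
    Function.Bijective (wVal β q A : (so K A ⟶ Red.bc (pK k K) W) → (A ⊗[k] B)ˣ) := by
  have h1 : Function.Bijective (fun g : (Over.map (pK k K)).obj (so K A) ⟶ W => (jA (k := k) A).hom ≫ g) := by
    constructor
    · intro g g' h
      exact (cancel_epi (jA (k := k) A).hom).mp h
    · intro g
      exact ⟨(jA (k := k) A).inv ≫ g, by simp⟩
  exact (ptEquiv β A).bijective.comp ((hq (so k A)).comp (h1.comp (bcEquiv (pK k K) (so K A) W).symm.bijective))

theorem wVal_mul (hm : ∀ (T : Over (Spec (CommRingCat.of k))) (x y : T ⟶ W),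
      WeilRes.restr f q T (x * y) = WeilRes.restr f q T x * WeilRes.restr f q T y)
    (A : Type u) [CommRing A] [Algebra k A] [Algebra K A]
    [IsScalarTower k K A] (x y : so K A ⟶ Red.bc (pK k K) W) :
    wVal β q A (x * y) = wVal β q A x * wVal β q A y := by
  unfold wVal
  rw [map_mul, comp_mul, hm]
  exact map_mul ((GmPts.equiv (Red.bc f (so k A))).trans
    (Units.mapEquiv (secIso β A).commRingCatIsoToRingEquiv.symm.toMulEquiv)) _ _

/-- the algebra structure over the small field -/
@[reducible] def algk (k K : Type u) [Field k] [Field K] [Algebra k K] (A : Type u) [CommRing A] [Algebra K A] :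
    Algebra k A :=
  ((algebraMap K A).comp (algebraMap k K)).toAlgebra

theorem tower (k K : Type u) [Field k] [Field K] [Algebra k K] (A : Type u) [CommRing A] [Algebra K A] :
    letI := algk k K A
    IsScalarTower k K A :=
  letI := algk k K A
  IsScalarTower.of_algebraMap_eq (fun _ => rfl)

include β in
/-- **The direct image of the multiplicative group is a torus.** -/
theorem isSplitTorusWith {n : ℕ} (c : Fin n → (B →ₐ[k] K)) (hc : Function.Bijective (coordMap c K))
    (hq : WeilRes.IsWeilRes f (Red.Gm X) W q)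
    (hm : ∀ (T : Over (Spec (CommRingCat.of k))) (x y : T ⟶ W),
      WeilRes.restr f q T (x * y) = WeilRes.restr f q T x * WeilRes.restr f q T y) :
    Red.IsSplitTorusWith (Fin n → ℤ) (Red.bc (pK k K) W) := by
  let V : ∀ (A : Type u) [CommRing A] [Algebra K A], (so K A ⟶ Red.bc (pK k K) W) ≃* (Fin n → A)ˣ :=
    fun A _ _ =>
      letI := algk k K A
      haveI := tower k K A
      (MulEquiv.ofBijective (MulHom.mk (wVal β q A) (wVal_mul β hm A)) (wVal_bijective β hq A)).trans
        (Units.mapEquiv (AlgEquiv.ofBijective (coordMap c A) (coordMap_bijective c hc A)).toMulEquiv)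
  have hV : ∀ {A A' : Type u} [CommRing A] [Algebra K A] [CommRing A'] [Algebra K A'] (j : A →ₐ[K] A')
      (g : so K A ⟶ Red.bc (pK k K) W) (i : Fin n),
      (V A' (som j ≫ g) : Fin n → A') i = j ((V A g : Fin n → A) i) := by
    intro A A' _ _ _ _ j g i
    let _ := algk k K A
    let _ := algk k K A'
    have := tower k K A
    have := tower k K A'
    change coordMap c A' (wVal β q A' (som j ≫ g) : A' ⊗[k] B) i = j (coordMap c A (wVal β q A g : A ⊗[k] B) i)
    rw [wVal_som]
    exact coordMap_nat c j _ i
  refine exists_iso (fun A _ _ => (V A).trans (dsValEquiv A).symm) fun {A A'} _ _ _ _ j g => ?_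
  apply (dsValEquiv A').injective
  rw [MulEquiv.trans_apply, MulEquiv.apply_symm_apply]
  apply Units.ext
  funext i
  rw [hV]
  change _ = (dsVal A' (som j ≫ (dsValEquiv A).symm (V A g)) : Fin n → A') i
  rw [dsVal_som]
  congr 1
  exact (congrFun (congrArg Units.val ((dsValEquiv A).apply_symm_apply (V A g))) i).symm

end Main

end K983.TorusPush
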